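import Mathlib.AlgebraicGeometry.Morphisms.Flat
import Mathlib.AlgebraicGeometry.Fiber
import Mathlib.RingTheory.DiscreteValuationRing.Basic
import Mathlib.RingTheory.Spectrum.Prime.Topology
import Mathlib.RingTheory.TensorProduct.Quotient
import Mathlib.RingTheory.Flat.TorsionFree

/-!
# Connectedness of generic fibres over discrete valuation rings
-/

set_option autoImplicit false
set_option backward.isDefEq.respectTransparency false
set_option linter.style.haveILetI false

universe u

open CategoryTheory CategoryTheory.Limits AlgebraicGeometry TopologicalSpace TensorProduct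

namespace GrothLib.DvrConn6

/-- A clopen subset of the locus where a nonzerodivisor with reduced quotient is invertible extends
to a clopen subset of the whole spectrum. -/
theorem exists_isClopen_extend {B : Type u} [CommRing B] (b : B) (hb : b ∈ nonZeroDivisors B)
    (hred : _root_.IsReduced (B ⧸ Ideal.span {b})) {s : Set (PrimeSpectrum B)}
    (hs : IsOpen s) (ht : IsOpen ((PrimeSpectrum.basicOpen b : Set (PrimeSpectrum B)) \ s))
    (hsb : s ⊆ PrimeSpectrum.basicOpen b) :
    ∃ t : Set (PrimeSpectrum B), IsClopen t ∧ t ∩ PrimeSpectrum.basicOpen b = s := by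
  let L := Localization.Away b
  let c := PrimeSpectrum.comap (algebraMap B L)
  have hrange : Set.range c = PrimeSpectrum.basicOpen b := PrimeSpectrum.localization_away_comap_range L b
  have hcl : IsClopen (c ⁻¹' s) := by
    refine ⟨?_, hs.preimage (PrimeSpectrum.continuous_comap _)⟩
    rw [← isOpen_compl_iff]
    have : (c ⁻¹' s)ᶜ = c ⁻¹' ((PrimeSpectrum.basicOpen b : Set (PrimeSpectrum B)) \ s) := by
      ext p
      exact ⟨fun h => ⟨hrange ▸ ⟨p, rfl⟩, h⟩, fun h => h.2⟩
    rw [this]
    exact ht.preimage (PrimeSpectrum.continuous_comap _)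
  obtain ⟨e, he, hse⟩ := PrimeSpectrum.exists_idempotent_basicOpen_eq_of_isClopen hcl
  have hinj : Function.Injective (algebraMap B L) :=
    IsLocalization.injective L (Submonoid.powers_le.2 hb)
  have key : ∀ (n : ℕ) (x : B), e * algebraMap B L (b ^ n) = algebraMap B L x →
      ∃ y : B, algebraMap B L y = e := by
    intro n
    induction n with
    | zero => exact fun x hx => ⟨x, by rw [← hx, pow_zero, map_one, mul_one]⟩
    | succ n ih =>
      intro x hx
      have h2 : x * x = b ^ (n + 1) * x := hinj (by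
        rw [map_mul, map_mul, ← hx]
        linear_combination (algebraMap B L (b ^ (n + 1)) * algebraMap B L (b ^ (n + 1))) * he.eq)
      have h3 : Ideal.Quotient.mk (Ideal.span {b}) x = 0 := by
        refine IsNilpotent.eq_zero ⟨2, ?_⟩
        rw [← map_pow, Ideal.Quotient.eq_zero_iff_mem, Ideal.mem_span_singleton, pow_two, h2, pow_succ']
        exact ⟨b ^ n * x, by ring⟩
      obtain ⟨y, rfl⟩ := Ideal.mem_span_singleton.1 (Ideal.Quotient.eq_zero_iff_mem.1 h3)
      refine ih y (IsUnit.mul_left_cancel (IsLocalization.Away.algebraMap_isUnit (S := L) b) ?_)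
      rw [← map_mul, ← hx, pow_succ', map_mul]
      ring
  obtain ⟨⟨x, ⟨_, n, rfl⟩⟩, hx⟩ := IsLocalization.surj (Submonoid.powers b) e
  obtain ⟨y, hy⟩ := key n x hx
  have hy2 : IsIdempotentElem y := hinj (by rw [map_mul, hy]; exact he.eq)
  refine ⟨PrimeSpectrum.basicOpen y, PrimeSpectrum.isClopen_iff.2 ⟨y, hy2, rfl⟩, Set.ext fun p => ⟨?_, ?_⟩⟩
  · rintro ⟨hp, hpb⟩
    obtain ⟨q, rfl⟩ := hrange.ge hpb
    refine hse.ge (show q ∈ PrimeSpectrum.basicOpen e from ?_)
    rw [← hy]; exact hp
  · intro hp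
    obtain ⟨q, rfl⟩ := hrange.ge (hsb hp)
    refine ⟨?_, hsb hp⟩
    show q ∈ PrimeSpectrum.basicOpen (algebraMap B L y)
    rw [hy]; exact hse.le hp

theorem dense_basicOpen {B : Type u} [CommRing B] (b : B) (hb : b ∈ nonZeroDivisors B) :
    Dense (PrimeSpectrum.basicOpen b : Set (PrimeSpectrum B)) := by
  rw [dense_iff_closure_eq, ← PrimeSpectrum.zeroLocus_vanishingIdeal_eq_closure]
  refine Set.eq_univ_of_forall fun p => ?_
  intro x hx
  refine nilradical_le_prime p.asIdeal (show x ∈ nilradical B from ?_)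
  obtain ⟨n, hn⟩ : IsNilpotent (b * x) := by
    rw [← mem_nilradical, nilradical_eq_sInf, Submodule.mem_sInf]
    intro q hq
    by_cases hbq : b ∈ q
    · exact Ideal.mul_mem_right _ _ hbq
    · exact Ideal.mul_mem_left _ _ ((PrimeSpectrum.mem_vanishingIdeal _ _).1 hx ⟨q, hq⟩ hbq)
  rw [mul_pow] at hn
  exact ⟨n, (mem_nonZeroDivisors_iff.1 (pow_mem hb n)).1 _ hn⟩

theorem isReduced_quotient {R B : Type u} [CommRing R] [CommRing B] [Algebra R B] (m : Ideal R) [m.IsMaximal]
    {X : Scheme.{u}} (f : X ⟶ Spec (CommRingCat.of R)) (j : Spec (CommRingCat.of B) ⟶ X) [IsOpenImmersion j]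
    (hj : j ≫ f = Spec.map (CommRingCat.ofHom (algebraMap R B)))
    (hred : IsReduced (f.fiber (⟨m, inferInstance⟩ : PrimeSpectrum R))) :
    _root_.IsReduced (B ⧸ m.map (algebraMap R B)) := by
  let s : Spec (CommRingCat.of R) := (⟨m, inferInstance⟩ : PrimeSpectrum R)
  let qm := CommRingCat.ofHom (Ideal.Quotient.mk m)
  let e : CommRingCat.of (R ⧸ m) ⟶ (Spec (CommRingCat.of R)).residueField s :=
    CommRingCat.ofHom (algebraMap (R ⧸ m) m.ResidueField) ≫ (Scheme.Spec.residueFieldIso (CommRingCat.of R) s).inv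
  haveI : IsIso e := by
    haveI : IsIso (CommRingCat.ofHom (algebraMap (R ⧸ m) m.ResidueField)) :=
      (ConcreteCategory.isIso_iff_bijective _).2 (Ideal.bijective_algebraMap_quotient_residueField m)
    infer_instance
  have hq : (Spec (CommRingCat.of R)).fromSpecResidueField s = Spec.map e ≫ Spec.map qm := by
    rw [← Scheme.Spec.map_residueFieldIso_inv_eq_fromSpecResidueField, ← Spec.map_comp, ← Spec.map_comp]
    refine congrArg Spec.map ?_
    show _ = qm ≫ CommRingCat.ofHom (algebraMap (R ⧸ m) m.ResidueField) ≫ _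
    rw [← Category.assoc]
    rfl
  haveI : IsIso (pullback.map f ((Spec (CommRingCat.of R)).fromSpecResidueField s) f (Spec.map qm) (𝟙 X)
      (Spec.map e) (𝟙 _) (by simp) (by simp [hq])) := inferInstance
  haveI : IsReduced (pullback f (Spec.map qm)) :=
    haveI : IsReduced (pullback f ((Spec (CommRingCat.of R)).fromSpecResidueField s)) := hred
    isReduced_of_isOpenImmersion (inv (pullback.map f ((Spec (CommRingCat.of R)).fromSpecResidueField s) f
      (Spec.map qm) (𝟙 X) (Spec.map e) (𝟙 _) _ _))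
  haveI : IsReduced (pullback (Spec.map (CommRingCat.ofHom (algebraMap R B))) (Spec.map qm)) :=
    isReduced_of_isOpenImmersion (pullback.map (Spec.map (CommRingCat.ofHom (algebraMap R B))) (Spec.map qm)
      f (Spec.map qm) j (𝟙 _) (𝟙 _) (by simp [hj]) (by simp))
  haveI : IsReduced (Spec (CommRingCat.of (B ⊗[R] (R ⧸ m)))) :=
    isReduced_of_isOpenImmersion (pullbackSpecIso R B (R ⧸ m)).inv
  haveI : _root_.IsReduced (B ⊗[R] (R ⧸ m)) := (affine_isReduced_iff (CommRingCat.of (B ⊗[R] (R ⧸ m)))).1 inferInstance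
  exact isReduced_of_injective (Algebra.TensorProduct.quotIdealMapEquivTensorQuot B m)
    (Algebra.TensorProduct.quotIdealMapEquivTensorQuot B m).injective

/-- The generic fibre of a connected flat scheme over a discrete valuation ring with reduced closed
fibre is connected. -/
theorem connectedSpace_generic {R : Type u} [CommRing R] [IsDomain R] [IsDiscreteValuationRing R] {X : Scheme.{u}}
    (f : X ⟶ Spec (CommRingCat.of R)) [Flat f] [ConnectedSpace ↑X]
    (hred : IsReduced (f.fiber (IsLocalRing.closedPoint R))) :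
    ConnectedSpace ↑(f.fiber (⟨⊥, Ideal.isPrime_bot⟩ : PrimeSpectrum R)) := by
  obtain ⟨π, hπ⟩ := IsDiscreteValuationRing.exists_irreducible R
  let η : Spec (CommRingCat.of R) := (⟨⊥, Ideal.isPrime_bot⟩ : PrimeSpectrum R)
  have hη : (PrimeSpectrum.basicOpen π : Set (PrimeSpectrum R)) = {(⟨⊥, Ideal.isPrime_bot⟩ : PrimeSpectrum R)} := by
    ext p
    refine ⟨fun hp => PrimeSpectrum.ext ?_, fun hp => by rw [hp]; exact hπ.ne_zero⟩
    by_contra hne
    haveI := IsPrime.to_maximal_ideal (hpi := p.isPrime) hne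
    refine hp ?_
    show π ∈ p.asIdeal
    rw [IsLocalRing.eq_maximalIdeal (this), hπ.maximalIdeal_eq]
    exact Ideal.mem_span_singleton_self π
  let P : Set X := f ⁻¹' (PrimeSpectrum.basicOpen π : Set (PrimeSpectrum R))
  have hPo : IsOpen P := (PrimeSpectrum.basicOpen π).isOpen.preimage f.continuous
  have chart : ∀ x : X, ∃ (B : CommRingCat.{u}) (j : Spec B ⟶ X) (b : B), IsOpenImmersion j ∧ x ∈ Set.range j ∧
      b ∈ nonZeroDivisors B ∧ _root_.IsReduced (B ⧸ Ideal.span {b}) ∧ j ⁻¹' P = (PrimeSpectrum.basicOpen b : Set (PrimeSpectrum B)) := by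
    intro x
    obtain ⟨U, hU, hxU, -⟩ := exists_isAffineOpen_mem_and_subset (X := X) (x := x) (U := ⊤) trivial
    let φ : CommRingCat.of R ⟶ Γ(X, U) := Spec.preimage (hU.fromSpec ≫ f)
    have hφ : hU.fromSpec ≫ f = Spec.map φ := (Spec.map_preimage _).symm
    refine ⟨Γ(X, U), hU.fromSpec, φ π, inferInstance, by rw [hU.range_fromSpec]; exact hxU, ?_, ?_, ?_⟩
    · have hflat : φ.hom.Flat := by
        haveI : Flat (Spec.map φ) := hφ ▸ inferInstance
        exact (HasRingHomProperty.Spec_iff (P := @Flat)).1 inferInstance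
      letI : Algebra R Γ(X, U) := φ.hom.toAlgebra
      haveI : Module.Flat R Γ(X, U) := hflat
      refine mem_nonZeroDivisors_iff_right.2 fun y hy => ?_
      have h : IsSMulRegular Γ(X, U) π :=
        Module.Flat.isSMulRegular_of_nonZeroDivisors (mem_nonZeroDivisors_of_ne_zero hπ.ne_zero)
      exact h (show π • y = π • (0 : Γ(X, U)) by rw [smul_zero, Algebra.smul_def, mul_comm]; exact hy)
    · letI : Algebra R Γ(X, U) := φ.hom.toAlgebra
      have h := isReduced_quotient (B := Γ(X, U)) (IsLocalRing.maximalIdeal R) f hU.fromSpec hφ hred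
      rwa [hπ.maximalIdeal_eq, Ideal.map_span, Set.image_singleton] at h
    · have : (hU.fromSpec ≫ f) ⁻¹' (PrimeSpectrum.basicOpen π : Set (PrimeSpectrum R)) = (PrimeSpectrum.basicOpen (φ π) : Set (PrimeSpectrum Γ(X, U))) := by
        rw [hφ]; rfl
      exact this
  have hdense : Dense P := fun x => by
    obtain ⟨B, j, b, hj, ⟨p, rfl⟩, hb, -, hP⟩ := chart x
    have := dense_basicOpen b hb p
    rw [← hP] at this
    exact j.continuous.closure_preimage_subset P this
  have hpre : _root_.IsPreconnected P := by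
    intro V W hV hW hcov ⟨v, hvP, hvV⟩ ⟨w, hwP, hwW⟩
    by_contra hne
    rw [Set.not_nonempty_iff_eq_empty] at hne
    let V₀ := P ∩ V
    let W₀ := P ∩ W
    have hVW : V₀ ∩ W₀ = ∅ := Set.eq_empty_of_forall_notMem fun z hz => hne.le ⟨hz.1.1, hz.1.2, hz.2.2⟩
    have huniv : closure V₀ ∪ closure W₀ = Set.univ := by
      rw [← closure_union, ← Set.inter_union_distrib_left, Set.inter_eq_left.2 hcov, hdense.closure_eq]
    have hdisj : closure V₀ ∩ closure W₀ = ∅ := Set.eq_empty_of_forall_notMem fun x hx => by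
      obtain ⟨B, j, b, hj, ⟨p, rfl⟩, hb, hr, hP⟩ := chart x
      have hjo := j.isOpenEmbedding.isOpenMap
      have hpV : p ∈ closure (j ⁻¹' V₀) := by rw [← hjo.preimage_closure_eq_closure_preimage j.continuous]; exact hx.1
      have hpW : p ∈ closure (j ⁻¹' W₀) := by rw [← hjo.preimage_closure_eq_closure_preimage j.continuous]; exact hx.2
      have hsub : j ⁻¹' V₀ ⊆ (PrimeSpectrum.basicOpen b : Set (PrimeSpectrum B)) := fun q hq => hP.le hq.1
      have hdiff : (PrimeSpectrum.basicOpen b : Set (PrimeSpectrum B)) \ (j ⁻¹' V₀) = j ⁻¹' W₀ := by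
        ext q
        refine ⟨fun ⟨h1, h2⟩ => ⟨hP.ge h1, (hcov (hP.ge h1)).resolve_left fun h => h2 ⟨hP.ge h1, h⟩⟩,
          fun h => ⟨hP.le h.1, fun h' => hVW.le ⟨h', h⟩⟩⟩
      obtain ⟨t, ht, htV⟩ := exists_isClopen_extend b hb hr (s := j ⁻¹' V₀) ((hPo.inter hV).preimage j.continuous)
        (by rw [hdiff]; exact (hPo.inter hW).preimage j.continuous) hsub
      have h1 : p ∈ t := closure_minimal (fun q hq => (htV.ge hq).1) ht.1 hpV
      have h2 : p ∈ tᶜ := closure_minimal (fun q hq hqt => hVW.le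
        ⟨(htV.le ⟨hqt, hP.le hq.1⟩ : q ∈ j ⁻¹' V₀), hq⟩) ht.compl.1 hpW
      exact h2 h1
    have hcl : IsClopen (closure V₀) := ⟨isClosed_closure, by
      have : closure V₀ = (closure W₀)ᶜ := Set.ext fun z => ⟨fun h h' => hdisj.le ⟨h, h'⟩,
        fun h => (huniv.ge (Set.mem_univ z)).resolve_right h⟩
      rw [this]; exact isClosed_closure.isOpen_compl⟩
    rcases isClopen_iff.1 hcl with h | h
    · exact h.le (subset_closure ⟨hvP, hvV⟩)
    · exact hdisj.le ⟨h.ge (Set.mem_univ w), subset_closure ⟨hwP, hwW⟩⟩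
  have hP : _root_.IsConnected P :=
    ⟨hdense.nonempty, hpre⟩
  have hemb := (f.fiberι η).isEmbedding
  rw [connectedSpace_iff_univ]
  refine ⟨?_, hemb.isInducing.isPreconnected_image.1 ?_⟩
  · obtain ⟨z, hz⟩ := hP.nonempty
    obtain ⟨z', -⟩ := (f.range_fiberι η).ge (show z ∈ f ⁻¹' {η} from hη.le hz)
    exact ⟨z', trivial⟩
  · rw [Set.image_univ, f.range_fiberι]
    have : P = f ⁻¹' {η} := congrArg (f ⁻¹' ·) hη
    rw [← this]; exact hpre

end GrothLib.DvrConn6
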